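import Mathlib

/-!
# The standard semistable node `V[x,y]/(xy - ϖ)`: notation (helper80, for S14386)
-/

set_option autoImplicit false
universe u

namespace Groth.Agent.Lib.Helper80.Node

/-- The polynomial `xy - ϖ`. -/
noncomputable abbrev gNode (V : Type u) [CommRing V] (ϖ : V) : MvPolynomial (Fin 2) V :=
  MvPolynomial.X 0 * MvPolynomial.X 1 - MvPolynomial.C ϖ

/-- The ring `V[x,y]/(xy - ϖ)`. -/
abbrev Q (V : Type u) [CommRing V] (ϖ : V) : Type u :=
  MvPolynomial (Fin 2) V ⧸ Ideal.span {gNode V ϖ}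

/-- The class of `x`. -/
noncomputable abbrev xq (V : Type u) [CommRing V] (ϖ : V) : Q V ϖ :=
  Ideal.Quotient.mk (Ideal.span {gNode V ϖ}) (MvPolynomial.X 0 : MvPolynomial (Fin 2) V)

/-- The class of `y`. -/
noncomputable abbrev yq (V : Type u) [CommRing V] (ϖ : V) : Q V ϖ :=
  Ideal.Quotient.mk (Ideal.span {gNode V ϖ}) (MvPolynomial.X 1 : MvPolynomial (Fin 2) V)

end Groth.Agent.Lib.Helper80.Node
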